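import Groth.Agent.DivCodim.Stalk
import Mathlib.RingTheory.DiscreteValuationRing.Basic
import Mathlib.Topology.NoetherianSpace
import Mathlib.AlgebraicGeometry.Noetherian

/-!
# An ideal agrees with a sum of integral divisors off codimension two
-/

set_option backward.isDefEq.respectTransparency false
set_option linter.style.haveILetI false

universe u

open CategoryTheory AlgebraicGeometry TopologicalSpace IsLocalRing Order

noncomputable section

namespace Groth.Agent.DivCodim

/-- Membership in a product of powers of distinct principal primes. -/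
theorem mem_prod_span {R : Type*} [CommRing R] [IsLocalRing R] {ι : Type*} (s : Finset ι) (f : ι → R) (n : ι → ℕ)
    (hf : ∀ i ∈ s, f i ∈ nonZeroDivisors R) (hp : ∀ i ∈ s, (Ideal.span {f i}).IsPrime)
    (hne : ∀ i ∈ s, ∀ j ∈ s, i ≠ j → f i ∉ Ideal.span {f j}) {a : R}
    (ha : ∀ i ∈ s, a ∈ Ideal.span {f i} ^ n i) : a ∈ ∏ i ∈ s, Ideal.span {f i} ^ n i := by
  classical
  induction s using Finset.induction generalizing a with
  | empty => simp
  | insert i s hi ih =>
    rw [Finset.prod_insert hi]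
    have ha' := ha i (Finset.mem_insert_self i s)
    rw [Ideal.span_singleton_pow, Ideal.mem_span_singleton'] at ha'
    obtain ⟨b, rfl⟩ := ha'
    rw [mul_comm b]
    refine Ideal.mul_mem_mul (Ideal.pow_mem_pow (Ideal.mem_span_singleton_self _) _)
      (ih (fun j hj => hf j (Finset.mem_insert_of_mem hj)) (fun j hj => hp j (Finset.mem_insert_of_mem hj))
        (fun j hj k hk => hne j (Finset.mem_insert_of_mem hj) k (Finset.mem_insert_of_mem hk)) fun j hj => ?_)
    have hji : i ≠ j := fun e => hi (e ▸ hj)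
    have hj' := ha j (Finset.mem_insert_of_mem hj)
    have hpow : ∀ (m : ℕ) (c : R), c * f i ^ n i ∈ Ideal.span {f j} ^ m → c ∈ Ideal.span {f j} ^ m := by
      intro m
      induction m with
      | zero => intro c _; simp
      | succ m hm =>
        intro c hc
        haveI := hp j (Finset.mem_insert_of_mem hj)
        have h1 : c ∈ Ideal.span {f j} := by
          rcases (hp j (Finset.mem_insert_of_mem hj)).mem_or_mem (Ideal.pow_le_self (by omega) hc) with h | h
          · exact h
          · exact absurd ((hp j (Finset.mem_insert_of_mem hj)).mem_of_pow_mem _ h)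
              (hne i (Finset.mem_insert_self i s) j (Finset.mem_insert_of_mem hj) hji)
        obtain ⟨d, rfl⟩ := Ideal.mem_span_singleton'.1 h1
        rw [Ideal.span_singleton_pow, Ideal.mem_span_singleton'] at hc ⊢
        obtain ⟨e, he⟩ := hc
        have hd : d * f i ^ n i ∈ Ideal.span {f j} ^ m := by
          rw [Ideal.span_singleton_pow, Ideal.mem_span_singleton']
          refine ⟨e, ?_⟩
          have h0 : (e * f j ^ m - d * f i ^ n i) * f j = 0 := by linear_combination he
          exact sub_eq_zero.1 ((mem_nonZeroDivisors_iff_right.1 (hf j (Finset.mem_insert_of_mem hj))) _ h0)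
        have := hm d hd
        rw [Ideal.span_singleton_pow, Ideal.mem_span_singleton'] at this
        obtain ⟨g, hg⟩ := this
        exact ⟨g, by rw [pow_succ, ← mul_assoc, hg]⟩
    exact hpow _ _ hj'

/-- A generator of a prime that lies in another principal prime generates the same ideal. -/
theorem span_eq_of_mem {R : Type*} [CommRing R] {f g : R} (hg : f ∈ nonZeroDivisors R)
    (hp : (Ideal.span {f}).IsPrime) (hq : (Ideal.span {g}).IsPrime) (h : f ∈ Ideal.span {g}) :
    Ideal.span {f} = Ideal.span {g} := by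
  refine le_antisymm ((Ideal.span_singleton_le_iff_mem _).2 h) ((Ideal.span_singleton_le_iff_mem _).2 ?_)
  obtain ⟨c, hc⟩ := Ideal.mem_span_singleton'.1 h
  rcases hp.mem_or_mem (hc ▸ Ideal.mem_span_singleton_self f : c * g ∈ Ideal.span {f}) with h1 | h1
  · obtain ⟨d, rfl⟩ := Ideal.mem_span_singleton'.1 h1
    have h0 : (1 - d * g) * f = 0 := by linear_combination (-1 : R) * hc
    have := mem_nonZeroDivisors_iff_right.1 hg _ h0
    exact absurd (Ideal.eq_top_of_isUnit_mem _ (Ideal.mem_span_singleton_self g)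
      (IsUnit.of_mul_eq_one d (by linear_combination (-1 : R) * this))) hq.ne_top
  · exact h1

variable {X : Scheme.{u}}

theorem dim_le [IsLocallyNoetherian X] {y z : X} (h : y ⤳ z) :
    ringKrullDim (X.presheaf.stalk y) ≤ ringKrullDim (X.presheaf.stalk z) := by
  rw [ringKrullDim_stalk_eq_coheight, ringKrullDim_stalk_eq_coheight]
  exact WithBot.coe_le_coe.2 (coheight_anti h)

theorem dim_lt [IsLocallyNoetherian X] {y z : X} (h : y ⤳ z) (hne : y ≠ z)
    (hz : ringKrullDim (X.presheaf.stalk z) ≤ 1) : ringKrullDim (X.presheaf.stalk y) = 0 := by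
  rw [ringKrullDim_stalk_eq_coheight] at hz ⊢
  have h1 : Order.coheight y + 1 ≤ Order.coheight z :=
    coheight_add_one_le (lt_of_le_not_ge h fun h' => hne (Specializes.antisymm h h').eq)
  have h2 : Order.coheight y + 1 ≤ 0 + 1 := by rw [zero_add]; exact h1.trans (WithBot.coe_le_coe.1 hz)
  have h3 : Order.coheight y = 0 := nonpos_iff_eq_zero.1 ((ENat.add_le_add_iff_right ENat.one_ne_top).1 h2)
  rw [h3]; rfl

theorem exists_maximal [IsNoetherian X] {S : Set X} (hS : IsClosed S) :
    ∃ T : Set X, T.Finite ∧ T ⊆ S ∧ ∀ x ∈ S, ∃ g ∈ T, g ⤳ x := by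
  obtain ⟨𝒞, h𝒞, hcl, hirr, hU⟩ := NoetherianSpace.exists_finite_set_isClosed_irreducible hS
  refine ⟨⋃ t : 𝒞, {(hirr t.1 t.2).genericPoint}, ?_, ?_, fun x hx => ?_⟩
  · haveI := h𝒞.to_subtype
    exact Set.finite_iUnion fun _ => Set.finite_singleton _
  · rintro g hg
    obtain ⟨t, rfl⟩ := Set.mem_iUnion.1 hg
    rw [hU]
    refine ⟨t.1, t.2, ?_⟩
    have := (hirr t.1 t.2).isGenericPoint_genericPoint_closure.mem
    rwa [(hcl t.1 t.2).closure_eq] at this
  · rw [hU] at hx
    obtain ⟨t, ht, hxt⟩ := hx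
    exact ⟨_, Set.mem_iUnion.2 ⟨⟨t, ht⟩, rfl⟩,
      (hirr t ht).isGenericPoint_genericPoint_closure.specializes (subset_closure hxt)⟩

theorem main (X : Scheme.{u}) [IsNoetherian X]
    (𝓩 : X.IdealSheafData) {I : Type u} (𝓓 : I → X.IdealSheafData)
    (hD : ∀ i, BlowUp.IsEffCartierIdeal (𝓓 i)) (hDint : ∀ i, IsIntegral (𝓓 i).subscheme)
    (Z' : Set ↥X) (hZ' : IsClosed Z')
    (hcodim : ∀ z ∈ Z', (∀ y ∈ Z', y ⤳ z → y = z) → (2 : WithBot ℕ∞) ≤ ringKrullDim ↑(X.presheaf.stalk z))
    (hcover : (𝓩.support : Set ↥X) ⊆ Z' ∪ ⋃ i, ((𝓓 i).support : Set ↥X)) :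
    ∃ a : I →₀ ℕ, 𝓩 ≤ a.prod (fun i n => 𝓓 i ^ n) ∧
      ∃ U : X.Opens, (a.prod (fun i n => 𝓓 i ^ n)).comap U.ι = 𝓩.comap U.ι ∧
        ∀ z ∈ (𝓩.support : Set ↥X) \ (U : Set ↥X),
          (∀ y ∈ (𝓩.support : Set ↥X) \ (U : Set ↥X), y ⤳ z → y = z) →
          (2 : WithBot ℕ∞) ≤ ringKrullDim ↑(X.presheaf.stalk z) := by
  classical
  haveI := hDint
  let S : Set X := (𝓩.support : Set X)
  have hgen1 : ∀ i, ringKrullDim (X.presheaf.stalk (gen (𝓓 i))) = 1 := fun i =>
    MeroX.stalk_dim_eq_one (𝓓 i) (hD i) _ (gen_mem _) fun y hy h => gen_maximal _ hy h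
  -- low-codimension points of the support
  have hlow : ∀ z ∈ S, ringKrullDim (X.presheaf.stalk z) ≤ 1 → ∃ i, gen (𝓓 i) = z := by
    intro z hz hz1
    rcases hcover hz with h | h
    · obtain ⟨T, -, hTZ, hT⟩ := exists_maximal (S := Z') hZ'
      obtain ⟨g, hg, hgz⟩ := hT z h
      obtain ⟨T', -, hT'Z, hT'⟩ := exists_maximal (S := closure {g}) isClosed_closure
      have hle : ∀ y ∈ Z', y ⤳ g → (∀ w ∈ Z', w ⤳ y → w = y) → False := fun y hy hyg hmax =>
        absurd ((hcodim y hy hmax).trans ((dim_le (hyg.trans hgz)).trans hz1)) (by decide)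
      -- minimal dimension generization
      by_cases hmax : ∀ w ∈ Z', w ⤳ g → w = g
      · exact (hle g (hTZ hg) specializes_rfl hmax).elim
      · push Not at hmax
        obtain ⟨w, hw, hwg, hne⟩ := hmax
        have h0 := dim_lt hwg hne ((dim_le hgz).trans hz1)
        exact (hle w hw hwg fun v hv hvw => by
          by_contra hvne
          have h1 := dim_lt (hvw.trans hwg) (fun e => hne ((hwg.antisymm (e ▸ hvw : g ⤳ w)).eq)) ((dim_le hgz).trans hz1)
          rw [ringKrullDim_stalk_eq_coheight] at h0 h1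
          have h2 : Order.coheight v + 1 ≤ Order.coheight w :=
            coheight_add_one_le (lt_of_le_not_ge hvw fun h' => hvne (Specializes.antisymm hvw h').eq)
          rw [WithBot.coe_eq_coe.1 (h0.trans (WithBot.coe_zero).symm)] at h2
          exact absurd h2 (by simp)).elim
    · obtain ⟨i, hi⟩ := Set.mem_iUnion.1 h
      refine ⟨i, ?_⟩
      by_contra hne
      have := dim_lt (gen_specializes (𝓓 i) hi) hne hz1
      rw [hgen1] at this
      exact one_ne_zero this
  have hmaxS : ∀ z ∈ S, ringKrullDim (X.presheaf.stalk z) ≤ 1 → ∀ y ∈ S, y ⤳ z → y = z := by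
    intro z hz hz1 y hy hyz
    by_contra hne
    have h0 := dim_lt hyz hne hz1
    obtain ⟨i, rfl⟩ := hlow y hy (h0.le.trans zero_le_one)
    rw [hgen1] at h0
    exact one_ne_zero h0
  let P : Set X := {z | z ∈ S ∧ ringKrullDim (X.presheaf.stalk z) ≤ 1}
  have hPfin : P.Finite := by
    obtain ⟨T, hTfin, hTS, hT⟩ := exists_maximal (S := S) 𝓩.support.isClosed
    refine hTfin.subset fun z hz => ?_
    obtain ⟨g, hg, hgz⟩ := hT z hz.1
    exact hmaxS z hz.1 hz.2 g (hTS hg) hgz ▸ hg
  haveI := hPfin.fintype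
  choose idx hidx using fun z : P => hlow z.1 z.2.1 z.2.2
  have hidx_inj : Function.Injective idx := fun z w h =>
    Subtype.ext ((hidx z).symm.trans ((congrArg (fun i => gen (𝓓 i)) h).trans (hidx w)))
  have hex : ∀ z : P, ∃ n : ℕ, St 𝓩 z.1 = maximalIdeal _ ^ n := by
    intro z
    have hg : ∀ y ∈ ((𝓓 (idx z)).support : Set X), y ⤳ z.1 → y = z.1 := fun y hy h => by
      obtain ⟨i, hi⟩ : ∃ i, gen (𝓓 i) = z.1 := ⟨idx z, hidx z⟩
      rw [← hidx z] at h ⊢
      exact gen_maximal _ hy h
    obtain ⟨_, _⟩ := MeroX.dvr_of_integral (𝓓 (idx z)) (hD _) z.1 (hidx z ▸ gen_mem _) hg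
    have hmin := MeroX.mem_minimalPrimes_of_generic 𝓩 z.1 z.2.1 (hmaxS z.1 z.2.1 z.2.2) (nhd z.1).1 (nhd z.1).2
    have hne : St 𝓩 z.1 ≠ ⊥ := fun h => by
      change maximalIdeal _ ∈ (St 𝓩 z.1).minimalPrimes at hmin
      rw [h] at hmin
      exact IsDiscreteValuationRing.not_a_field (X.presheaf.stalk z.1)
        (le_bot_iff.1 (hmin.2 ⟨Ideal.bot_prime, le_rfl⟩ bot_le))
    obtain ⟨ϖ, hϖ⟩ := IsDiscreteValuationRing.exists_irreducible (X.presheaf.stalk z.1)
    obtain ⟨n, hn⟩ := IsDiscreteValuationRing.ideal_eq_span_pow_irreducible hne hϖ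
    exact ⟨n, by rw [hn, hϖ.maximalIdeal_eq, Ideal.span_singleton_pow]⟩
  choose n hn using hex
  let a : I →₀ ℕ := ∑ z : P, Finsupp.single (idx z) (n z)
  have haz : ∀ z : P, a (idx z) = n z := fun z => by
    show (∑ w : P, Finsupp.single (idx w) (n w)) (idx z) = n z
    rw [Finsupp.finsetSum_apply, Finset.sum_eq_single z (fun w _ hw => by
      rw [Finsupp.single_eq_of_ne (fun e => hw (hidx_inj e.symm))]) (fun h => absurd (Finset.mem_univ _) h),
      Finsupp.single_eq_same]
  let s : Finset I := Finset.univ.image idx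
  have hsupp : a.support ⊆ s := fun i hi => by
    by_contra h
    refine Finsupp.mem_support_iff.1 hi ?_
    show (∑ w : P, Finsupp.single (idx w) (n w)) i = 0
    rw [Finsupp.finsetSum_apply]
    exact Finset.sum_eq_zero fun w _ => Finsupp.single_eq_of_ne fun e =>
      h (Finset.mem_image.2 ⟨w, Finset.mem_univ _, e.symm⟩)
  set J := a.prod (fun i n => 𝓓 i ^ n) with hJ
  have hStJ : ∀ x, St J x = ∏ z : P, St (𝓓 (idx z)) x ^ n z := fun x => by
    rw [hJ, Finsupp.prod_of_support_subset _ hsupp _ (fun i _ => pow_zero _), St_prod,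
      Finset.prod_image (fun z _ w _ h => hidx_inj h)]
    exact Finset.prod_congr rfl fun z _ => by rw [St_pow, haz]
  have hle : 𝓩 ≤ J := by
    intro U b hb
    refine mem_ideal_of_germ J fun x hU => ?_
    rw [hStJ, ← Finset.prod_filter_of_ne (p := fun z : P => x ∈ ((𝓓 (idx z)).support : Set X)) (fun z _ h => by
      by_contra hx
      exact h (by rw [St_eq_top hx, Ideal.top_pow, Ideal.one_eq_top]))]
    choose f hf hfspan using fun z : P => St_principal (hD (idx z)) x
    simp only [hfspan]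
    have hsupp' : ∀ z ∈ Finset.univ.filter (fun z : P => x ∈ ((𝓓 (idx z)).support : Set X)),
        x ∈ ((𝓓 (idx z)).support : Set X) := fun z hz => (Finset.mem_filter.1 hz).2
    have hprime : ∀ z : P, x ∈ ((𝓓 (idx z)).support : Set X) → (Ideal.span {f z}).IsPrime := fun z hz =>
      hfspan z ▸ (St_isPrime (𝓓 (idx z)) U hU hz).1
    refine mem_prod_span _ f n (fun z _ => hf z) (fun z hz => hprime z (hsupp' z hz))
      (fun z hz w hw hne hmem => hne ?_) fun z hz => ?_
    · refine Subtype.ext ((hidx z).symm.trans ((gen_eq_of_St_eq (hsupp' z hz) (hsupp' w hw) ?_).trans (hidx w)))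
      rw [hfspan, hfspan]
      exact span_eq_of_mem (hf z) (hprime z (hsupp' z hz)) (hprime w (hsupp' w hw)) hmem
    · have hx := hsupp' z hz
      have hzU : z.1 ∈ U.1 := hidx z ▸ (gen_specializes (𝓓 (idx z)) hx).mem_open U.1.2 hU
      obtain ⟨hpr, hcomap⟩ := St_isPrime (𝓓 (idx z)) U hU hx
      have hbz : X.presheaf.germ U.1 z.1 hzU b ∈ St ((𝓓 (idx z)) ^ n z) z.1 := by
        have hmax : ∀ (y : X), gen (𝓓 (idx z)) = y → St (𝓓 (idx z)) y = maximalIdeal _ := by
          rintro y rfl; exact St_gen _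
        rw [St_pow, hmax z.1 (hidx z), ← hn z]
        exact germ_mem_St 𝓩 hb z.1 hzU
      rw [St_eq _ z.1 U hzU] at hbz
      letI : Algebra Γ(X, U.1) (X.presheaf.stalk z.1) := (X.presheaf.germ U.1 z.1 hzU).hom.toAlgebra
      haveI : IsLocalization.AtPrime (X.presheaf.stalk z.1) (U.2.primeIdealOf ⟨z.1, hzU⟩).asIdeal :=
        U.2.isLocalization_stalk ⟨z.1, hzU⟩
      obtain ⟨t, ht, htb⟩ := (IsLocalization.algebraMap_mem_map_algebraMap_iff
        (U.2.primeIdealOf ⟨z.1, hzU⟩).asIdeal.primeCompl (X.presheaf.stalk z.1) _ b).1 hbz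
      have htD : t ∉ (𝓓 (idx z)).ideal U := fun h => by
        have hu : IsUnit (X.presheaf.germ U.1 z.1 hzU t) :=
          IsLocalization.map_units (X.presheaf.stalk z.1) (⟨t, ht⟩ : (U.2.primeIdealOf ⟨z.1, hzU⟩).asIdeal.primeCompl)
        exact mem_support_iff_St.1 (hidx z ▸ gen_mem (𝓓 (idx z))) (germ_mem_St _ h z.1 hzU) hu
      have h1 := germ_mem_St _ htb x hU
      rw [St_pow, hfspan, map_mul] at h1
      have h2 : X.presheaf.germ U.1 x hU t ∉ Ideal.span {f z} := fun h => htD (by
        rw [← hcomap, Ideal.mem_comap, hfspan]; exact h)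
      have h3 : ∀ (m : ℕ) (c : X.presheaf.stalk x), X.presheaf.germ U.1 x hU t * c ∈ Ideal.span {f z} ^ m →
          c ∈ Ideal.span {f z} ^ m := by
        intro m
        induction m with
        | zero => intro c _; simp
        | succ m hm =>
          intro c hc
          have hc1 : c ∈ Ideal.span {f z} :=
            ((hprime z hx).mem_or_mem (Ideal.pow_le_self (by omega) hc)).resolve_left h2
          obtain ⟨d, rfl⟩ := Ideal.mem_span_singleton'.1 hc1
          rw [Ideal.span_singleton_pow, Ideal.mem_span_singleton'] at hc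
          obtain ⟨e, he⟩ := hc
          have hd : X.presheaf.germ U.1 x hU t * d ∈ Ideal.span {f z} ^ m := by
            rw [Ideal.span_singleton_pow, Ideal.mem_span_singleton']
            refine ⟨e, sub_eq_zero.1 (mem_nonZeroDivisors_iff_right.1 (hf z) _ ?_)⟩
            linear_combination he
          rw [pow_succ]
          exact Ideal.mul_mem_mul (hm d hd) (Ideal.mem_span_singleton_self _)
      exact h3 _ _ h1
  refine ⟨a, hle, ⨆ (V : X.affineOpens) (_ : 𝓩.ideal V = J.ideal V), V.1, ?_, fun z hz _ => ?_⟩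
  · refine Scheme.IdealSheafData.ext (funext fun W => ?_)
    rw [Scheme.IdealSheafData.ideal_comap_of_isOpenImmersion, Scheme.IdealSheafData.ideal_comap_of_isOpenImmersion]
    congr 1
    refine le_antisymm (fun b hb => mem_ideal_of_germ 𝓩 fun x hx => ?_) (hle _)
    obtain ⟨w, -, rfl⟩ := hx
    obtain ⟨V, hV⟩ := Opens.mem_iSup.1 w.2
    obtain ⟨hVeq, hwV⟩ := Opens.mem_iSup.1 hV
    have key : ∀ (y : X), y ∈ V.1 → St 𝓩 y = St J y := fun y hy => by
      rw [St_eq 𝓩 y V hy, hVeq, ← St_eq J y V hy]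
    exact (key _ hwV).symm ▸ germ_mem_St J hb _ _
  · by_contra hlt
    have hz1 : ringKrullDim (X.presheaf.stalk z) ≤ 1 := by
      rw [ringKrullDim_stalk_eq_coheight] at hlt ⊢
      rw [not_le, show (2 : WithBot ℕ∞) = ((2 : ℕ∞) : WithBot ℕ∞) from rfl, WithBot.coe_lt_coe] at hlt
      exact WithBot.coe_le_coe.2 ((ENat.lt_add_one_iff ENat.one_ne_top).1 (hlt.trans_eq (by norm_num)))
    let zz : P := ⟨z, hz.1, hz1⟩
    have hmax : ∀ (y : X) (i : I), gen (𝓓 i) = y → St (𝓓 i) y = maximalIdeal _ := by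
      rintro y i rfl; exact St_gen _
    have heq : St 𝓩 z = St J z := by
      rw [hStJ, Finset.prod_eq_single zz (fun w _ hw => by
        rw [St_eq_top (fun hsup => hw ?_), Ideal.top_pow, Ideal.one_eq_top]
        · refine Subtype.ext ?_
          exact hmaxS z hz.1 hz1 w.1 w.2.1 (hidx w ▸ gen_specializes _ hsup))
        (fun h => absurd (Finset.mem_univ _) h), hmax z (idx zz) (hidx zz)]
      exact hn zz
    obtain ⟨V, hzV, hV⟩ := exists_nhd_eq hle heq
    exact hz.2 (Opens.mem_iSup.2 ⟨V, Opens.mem_iSup.2 ⟨hV, hzV⟩⟩)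

end Groth.Agent.DivCodim

end
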