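import Groth.Prelude.Def_BlowUp2
import Groth.Agent.MeroX.DivDim
import Groth.Agent.MeroX.Basic
import Mathlib.AlgebraicGeometry.IdealSheaf.Functorial
import Mathlib.AlgebraicGeometry.Noetherian

/-!
# Stalks of ideal sheaves
-/

set_option backward.isDefEq.respectTransparency false
set_option linter.style.haveILetI false

universe u

open CategoryTheory AlgebraicGeometry TopologicalSpace IsLocalRing

noncomputable section

namespace Groth.Agent.DivCodim

variable {X : Scheme.{u}}

/-- An affine neighbourhood of a point. -/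
def nhd (x : X) : {U : X.affineOpens // x ∈ U.1} :=
  Classical.choice (by
    obtain ⟨U, hU, hxU, -⟩ := exists_isAffineOpen_mem_and_subset (U := (⊤ : X.Opens)) (x := x) trivial
    exact ⟨⟨⟨U, hU⟩, hxU⟩⟩)

/-- The stalk of an ideal sheaf. -/
def St (I : X.IdealSheafData) (x : X) : Ideal (X.presheaf.stalk x) :=
  (I.ideal (nhd x).1).map (X.presheaf.germ (nhd x).1.1 x (nhd x).2).hom

theorem map_eq_of_le (I : X.IdealSheafData) {U V : X.affineOpens} (h : U ≤ V) (x : X) (hU : x ∈ U.1) :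
    (I.ideal U).map (X.presheaf.germ U.1 x hU).hom =
      (I.ideal V).map (X.presheaf.germ V.1 x (h hU)).hom := by
  rw [← I.map_ideal h, Ideal.map_map, ← CommRingCat.hom_comp]
  congr 2
  exact X.presheaf.germ_res (homOfLE h) x hU

theorem St_eq (I : X.IdealSheafData) (x : X) (U : X.affineOpens) (hU : x ∈ U.1) :
    St I x = (I.ideal U).map (X.presheaf.germ U.1 x hU).hom := by
  obtain ⟨W, hW, hxW, hsub⟩ := exists_isAffineOpen_mem_and_subset (U := (nhd x).1.1 ⊓ U.1) (x := x) ⟨(nhd x).2, hU⟩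
  exact (map_eq_of_le I (U := ⟨W, hW⟩) (V := (nhd x).1) (fun y hy => (hsub hy).1) x hxW).symm.trans
    (map_eq_of_le I (U := ⟨W, hW⟩) (V := U) (fun y hy => (hsub hy).2) x hxW)

theorem germ_mem_St (I : X.IdealSheafData) {U : X.affineOpens} {a : Γ(X, U.1)} (ha : a ∈ I.ideal U)
    (x : X) (hU : x ∈ U.1) : X.presheaf.germ U.1 x hU a ∈ St I x := by
  rw [St_eq I x U hU]
  exact Ideal.mem_map_of_mem _ ha

theorem mem_ideal_of_germ (I : X.IdealSheafData) {U : X.affineOpens} {a : Γ(X, U.1)}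
    (h : ∀ (x : X) (hU : x ∈ U.1), X.presheaf.germ U.1 x hU a ∈ St I x) : a ∈ I.ideal U := by
  by_contra ha
  let J : Ideal Γ(X, U.1) := (I.ideal U).colon ({a} : Set Γ(X, U.1))
  have hJ : J ≠ ⊤ := fun hJ => ha (by
    have h1 : (1 : Γ(X, U.1)) ∈ J := hJ ▸ Submodule.mem_top
    simpa [J, Submodule.mem_colon_singleton] using h1)
  obtain ⟨M, hM, hJM⟩ := Ideal.exists_le_maximal J hJ
  let q : PrimeSpectrum Γ(X, U.1) := ⟨M, hM.isPrime⟩
  have hqU : U.2.fromSpec q ∈ U.1 := U.2.range_fromSpec.le ⟨q, rfl⟩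
  have hq : U.2.primeIdealOf ⟨U.2.fromSpec q, hqU⟩ = q :=
    U.2.fromSpec.isOpenEmbedding.injective (U.2.fromSpec_primeIdealOf ⟨_, hqU⟩)
  have hmem := h _ hqU
  rw [St_eq I _ U hqU] at hmem
  letI : Algebra Γ(X, U.1) (X.presheaf.stalk (U.2.fromSpec q)) :=
    (X.presheaf.germ U.1 _ hqU).hom.toAlgebra
  haveI : IsLocalization.AtPrime (X.presheaf.stalk (U.2.fromSpec q))
      (U.2.primeIdealOf ⟨U.2.fromSpec q, hqU⟩).asIdeal := U.2.isLocalization_stalk ⟨_, hqU⟩
  obtain ⟨s, hs, hsa⟩ := (IsLocalization.algebraMap_mem_map_algebraMap_iff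
    (U.2.primeIdealOf ⟨U.2.fromSpec q, hqU⟩).asIdeal.primeCompl (X.presheaf.stalk (U.2.fromSpec q))
    (I.ideal U) a).1 hmem
  have hsM : s ∉ M := by
    have : s ∉ (U.2.primeIdealOf ⟨U.2.fromSpec q, hqU⟩).asIdeal := hs
    rwa [hq] at this
  exact hsM (hJM (by simpa [J, Submodule.mem_colon_singleton] using hsa))

theorem le_iff_St {I J : X.IdealSheafData} : I ≤ J ↔ ∀ x, St I x ≤ St J x := by
  refine ⟨fun h x => Ideal.map_mono (h _), fun h U a ha => ?_⟩
  exact mem_ideal_of_germ J fun x hU => h x (germ_mem_St I ha x hU)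

theorem St_mul (I J : X.IdealSheafData) (x : X) : St (I * J) x = St I x * St J x := by
  simp only [St, Scheme.IdealSheafData.ideal_mul, Pi.mul_apply, Ideal.map_mul]

theorem St_one (x : X) : St (1 : X.IdealSheafData) x = 1 := by
  simp only [St, Scheme.IdealSheafData.one_eq_top, Scheme.IdealSheafData.ideal_top, Pi.top_apply, Ideal.map_top,
    Ideal.one_eq_top]

theorem St_pow (I : X.IdealSheafData) (n : ℕ) (x : X) : St (I ^ n) x = St I x ^ n := by
  simp only [St, Scheme.IdealSheafData.ideal_pow, Pi.pow_apply, Ideal.map_pow]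

theorem St_prod {ι : Type*} (s : Finset ι) (D : ι → X.IdealSheafData) (x : X) :
    St (∏ i ∈ s, D i) x = ∏ i ∈ s, St (D i) x := by
  classical
  induction s using Finset.induction with
  | empty => simpa using St_one x
  | insert a s ha ih => rw [Finset.prod_insert ha, Finset.prod_insert ha, St_mul, ih]

theorem mem_support_iff_St {I : X.IdealSheafData} {x : X} :
    x ∈ (I.support : Set X) ↔ St I x ≤ maximalIdeal (X.presheaf.stalk x) := by
  rw [St, Ideal.map_le_iff_le_comap]
  refine (Scheme.IdealSheafData.mem_support_iff_of_mem (U := (nhd x).1) (nhd x).2).trans ?_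
  rw [Scheme.mem_zeroLocus_iff]
  refine forall_congr' fun a => ?_
  constructor
  · intro h ha
    exact fun hu => h ha ((Scheme.mem_basicOpen _ _ _ (nhd x).2).2 hu)
  · intro h ha hb
    exact h ha ((Scheme.mem_basicOpen _ _ _ (nhd x).2).1 hb)

theorem St_eq_top {I : X.IdealSheafData} {x : X} (h : x ∉ (I.support : Set X)) : St I x = ⊤ := by
  by_contra hne
  exact h (mem_support_iff_St.2 (le_maximalIdeal hne))

/-- The generic point of an integral closed subscheme, seen in the ambient scheme. -/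
def gen (D : X.IdealSheafData) [IsIntegral D.subscheme] : X := D.subschemeι (genericPoint ↥D.subscheme)

theorem gen_mem (D : X.IdealSheafData) [IsIntegral D.subscheme] : gen D ∈ (D.support : Set X) := by
  rw [← Scheme.IdealSheafData.range_subschemeι]
  exact ⟨_, rfl⟩

theorem gen_specializes (D : X.IdealSheafData) [IsIntegral D.subscheme] {x : X}
    (hx : x ∈ (D.support : Set X)) : gen D ⤳ x := by
  rw [← Scheme.IdealSheafData.range_subschemeι] at hx
  obtain ⟨w, rfl⟩ := hx
  exact (genericPoint_specializes w).map D.subschemeι.continuous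

theorem gen_maximal (D : X.IdealSheafData) [IsIntegral D.subscheme] {y : X}
    (hy : y ∈ (D.support : Set X)) (h : y ⤳ gen D) : y = gen D :=
  (h.antisymm (gen_specializes D hy)).eq

theorem ideal_isPrime (D : X.IdealSheafData) [IsIntegral D.subscheme] (U : X.affineOpens) {x : X}
    (hU : x ∈ U.1) (hx : x ∈ (D.support : Set X)) : (D.ideal U).IsPrime := by
  haveI : Nonempty ↥(D.subschemeι ⁻¹ᵁ U.1) := by
    rw [← Scheme.IdealSheafData.range_subschemeι] at hx
    obtain ⟨z, rfl⟩ := hx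
    exact ⟨⟨z, hU⟩⟩
  haveI : IsDomain Γ(D.subscheme, D.subschemeι ⁻¹ᵁ U.1) :=
    @IsIntegral.component_integral _ _ (D.subschemeι ⁻¹ᵁ U.1) ‹_›
  rw [← Scheme.IdealSheafData.ker_subschemeι_app]
  exact RingHom.ker_isPrime _

theorem St_isPrime (D : X.IdealSheafData) [IsIntegral D.subscheme] {x : X} (U : X.affineOpens)
    (hU : x ∈ U.1) (hx : x ∈ (D.support : Set X)) :
    (St D x).IsPrime ∧ (St D x).comap (X.presheaf.germ U.1 x hU).hom = D.ideal U := by
  have hP : (D.ideal U).IsPrime := ideal_isPrime D U hU hx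
  letI : Algebra Γ(X, U.1) (X.presheaf.stalk x) := (X.presheaf.germ U.1 x hU).hom.toAlgebra
  haveI : IsLocalization.AtPrime (X.presheaf.stalk x) (U.2.primeIdealOf ⟨x, hU⟩).asIdeal :=
    U.2.isLocalization_stalk ⟨x, hU⟩
  have hle := mem_support_iff_St.1 hx
  rw [St_eq D x U hU] at hle ⊢
  have hdisj : Disjoint ((U.2.primeIdealOf ⟨x, hU⟩).asIdeal.primeCompl : Set Γ(X, U.1))
      (D.ideal U : Set Γ(X, U.1)) :=
    Set.disjoint_left.2 fun a ha haI =>
      hle (Ideal.mem_map_of_mem _ haI)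
        (IsLocalization.map_units (X.presheaf.stalk x) (⟨a, ha⟩ : (U.2.primeIdealOf ⟨x, hU⟩).asIdeal.primeCompl))
  exact ⟨IsLocalization.isPrime_of_isPrime_disjoint _ _ _ hP hdisj,
    IsLocalization.under_map_of_isPrime_disjoint _ _ hP hdisj⟩

theorem St_gen (D : X.IdealSheafData) [IsIntegral D.subscheme] : St D (gen D) = maximalIdeal _ := by
  have hU := (nhd (gen D)).2
  have hmin := MeroX.mem_minimalPrimes_of_generic D (gen D) (gen_mem D) (fun y hy h => gen_maximal D hy h)
    (nhd (gen D)).1 hU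
  exact le_antisymm (mem_support_iff_St.1 (gen_mem D))
    (hmin.2 ⟨(St_isPrime D (nhd (gen D)).1 hU (gen_mem D)).1, le_rfl⟩ (mem_support_iff_St.1 (gen_mem D)))

theorem gen_eq_of_St_eq {D E : X.IdealSheafData} [IsIntegral D.subscheme] [IsIntegral E.subscheme] {x : X}
    (hD : x ∈ (D.support : Set X)) (hE : x ∈ (E.support : Set X)) (h : St D x = St E x) : gen D = gen E := by
  have hU := (nhd x).2
  have hI : D.ideal (nhd x).1 = E.ideal (nhd x).1 := by
    rw [← (St_isPrime D (nhd x).1 hU hD).2, ← (St_isPrime E (nhd x).1 hU hE).2, h]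
  have key : ∀ {A B : X.IdealSheafData} [IsIntegral A.subscheme] [IsIntegral B.subscheme],
      x ∈ (A.support : Set X) → A.ideal (nhd x).1 = B.ideal (nhd x).1 → gen B ⤳ gen A := by
    intro A B _ _ hA hAB
    refine gen_specializes B ?_
    have hg : gen A ∈ (nhd x).1.1 := (gen_specializes A hA).mem_open (nhd x).1.1.2 hU
    have := (Scheme.IdealSheafData.mem_support_iff_of_mem (I := A) hg).1 (gen_mem A)
    rw [hAB] at this
    exact (Scheme.IdealSheafData.mem_support_iff_of_mem (I := B) hg).2 this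
  exact ((key hE hI.symm).antisymm (key hD hI)).eq

theorem St_principal {D : X.IdealSheafData} (hD : BlowUp.IsEffCartierIdeal D) (x : X) :
    ∃ f ∈ nonZeroDivisors (X.presheaf.stalk x), St D x = Ideal.span {f} := by
  obtain ⟨U, hU, f, hf, hfD⟩ := hD x
  refine ⟨X.presheaf.germ U.1 x hU f, MeroX.germ_mem_nonZeroDivisors U.2 hf x hU, ?_⟩
  rw [St_eq D x U hU, hfD, Ideal.map_span, Set.image_singleton]

/-- Equal stalks of a contained finitely generated ideal give equality near the point. -/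
theorem exists_nhd_eq [IsLocallyNoetherian X] {I J : X.IdealSheafData} (hle : I ≤ J) {x : X}
    (h : St I x = St J x) : ∃ V : X.affineOpens, x ∈ V.1 ∧ I.ideal V = J.ideal V := by
  classical
  obtain ⟨U, hU⟩ := nhd x
  haveI : IsNoetherianRing Γ(X, U.1) := IsLocallyNoetherian.component_noetherian U
  letI : Algebra Γ(X, U.1) (X.presheaf.stalk x) := (X.presheaf.germ U.1 x hU).hom.toAlgebra
  haveI : IsLocalization.AtPrime (X.presheaf.stalk x) (U.2.primeIdealOf ⟨x, hU⟩).asIdeal :=
    U.2.isLocalization_stalk ⟨x, hU⟩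
  obtain ⟨s, hs⟩ := IsNoetherian.noetherian (J.ideal U)
  have h1 : ∀ g : s, ∃ t ∈ (U.2.primeIdealOf ⟨x, hU⟩).asIdeal.primeCompl, t * g.1 ∈ I.ideal U := fun g => by
    have hg : X.presheaf.germ U.1 x hU g.1 ∈ St I x :=
      h ▸ germ_mem_St J (hs ▸ Submodule.subset_span g.2) x hU
    rw [St_eq I x U hU] at hg
    exact (IsLocalization.algebraMap_mem_map_algebraMap_iff _ (X.presheaf.stalk x) (I.ideal U) g.1).1 hg
  choose t ht htI using h1
  have hT : ∏ g, t g ∈ (U.2.primeIdealOf ⟨x, hU⟩).asIdeal.primeCompl := Submonoid.prod_mem _ fun g _ => ht g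
  refine ⟨X.affineBasicOpen (U := U) (∏ g, t g), ?_, le_antisymm (hle _) ?_⟩
  · exact (Scheme.mem_basicOpen _ _ _ hU).2 (IsLocalization.map_units (X.presheaf.stalk x)
      (⟨_, hT⟩ : (U.2.primeIdealOf ⟨x, hU⟩).asIdeal.primeCompl))
  · rw [← J.map_ideal_basicOpen U, ← I.map_ideal_basicOpen U, ← hs, Submodule.span, Ideal.map_le_iff_le_comap]
    refine sInf_le fun g hg => ?_
    obtain ⟨c, hc⟩ : t ⟨g, hg⟩ ∣ ∏ g, t g := Finset.dvd_prod_of_mem t (Finset.mem_univ _)
    have hu : IsUnit ((X.presheaf.map (homOfLE (X.basicOpen_le (∏ g, t g))).op).hom (∏ g, t g)) :=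
      RingedSpace.isUnit_res_basicOpen _ _
    rw [SetLike.mem_coe, Ideal.mem_comap]
    refine (Ideal.unit_mul_mem_iff_mem _ hu).1 ?_
    rw [← map_mul, hc, mul_right_comm]
    exact Ideal.mem_map_of_mem _ (Ideal.mul_mem_right _ _ (htI ⟨g, hg⟩))

end Groth.Agent.DivCodim

end
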